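/-
helper55: project S2924 (cores of involution centralizers generate an odd-order group), shared definition.
`th y = O(C_X(y))` viewed as a subgroup of `X`.
-/
import Mathlib
import Cfsg.Prelude.Def_Local
import Cfsg.Prelude.Def_CaseTheorems

set_option autoImplicit false

namespace Cfsg.Agent.Lib.Helper55.S2924

/-- `th y = O(C_X(y))`, the largest normal subgroup of odd order of the centralizer of `y`,
as a subgroup of `X`. -/
def th {X : Type*} [Group X] (y : X) : Subgroup X :=
  (Cfsg.oddCore ↥(Subgroup.centralizer ({y} : Set X))).map
    (Subgroup.centralizer ({y} : Set X)).subtype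

end Cfsg.Agent.Lib.Helper55.S2924
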