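/-
helper55: project S2924, module [API]: basic facts on `th y = O(C_X(y))`.
-/
import Mathlib
import Cfsg.Prelude.Def_Local
import Cfsg.Prelude.Def_CaseTheorems
import Cfsg.Agent.Lib.Helper55.S2924.Defs
import Cfsg.Agent.Lib.Helper55.Cores

set_option autoImplicit false

namespace Cfsg.Agent.Lib.Helper55.S2924

open Cfsg

variable {X : Type*} [Group X]

theorem th_le (y : X) : th y ≤ Subgroup.centralizer ({y} : Set X) :=
  Subgroup.map_subtype_le _

theorem th_card_coprime [Finite X] (y : X) : (Nat.card ↥(th y)).Coprime 2 := by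
  unfold th
  rw [Subgroup.card_map_of_injective (Subgroup.subtype_injective _)]
  exact Cfsg.Agent.Lib.Helper55.card_pPrimeCore_coprime 2

theorem th_normalized (y : X) :
    Subgroup.centralizer ({y} : Set X) ≤ Subgroup.normalizer ((th y : Subgroup X) : Set X) := by
  intro c hc
  have hn : (oddCore ↥(Subgroup.centralizer ({y} : Set X))).Normal :=
    Cfsg.Agent.Lib.Helper55.pPrimeCore_normal' 2
  have key : ∀ d ∈ Subgroup.centralizer ({y} : Set X), ∀ v ∈ th y, d * v * d⁻¹ ∈ th y := by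
    intro d hd v hv
    obtain ⟨v', hv', rfl⟩ := hv
    exact ⟨⟨d, hd⟩ * v' * ⟨d, hd⟩⁻¹, hn.conj_mem v' hv' ⟨d, hd⟩, rfl⟩
  rw [Subgroup.mem_normalizer_iff]
  intro v
  constructor
  · exact key c hc v
  · intro h
    have := key c⁻¹ (Subgroup.inv_mem _ hc) _ h
    simpa [mul_assoc] using this

/-- Conjugation by `g`, from `C_X(y)` to `C_X(g y g⁻¹)`. -/
def conjCent (g y : X) : ↥(Subgroup.centralizer ({y} : Set X)) →*
    ↥(Subgroup.centralizer ({g * y * g⁻¹} : Set X)) where
  toFun c := ⟨g * c * g⁻¹, by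
    have hc := c.2
    rw [Subgroup.mem_centralizer_iff] at hc ⊢
    intro x hx
    rw [Set.mem_singleton_iff] at hx
    subst hx
    have h1 := hc y rfl
    calc g * y * g⁻¹ * (g * ↑c * g⁻¹) = g * (y * ↑c) * g⁻¹ := by group
      _ = g * (↑c * y) * g⁻¹ := by rw [h1]
      _ = g * ↑c * g⁻¹ * (g * y * g⁻¹) := by group⟩
  map_one' := by
    apply Subtype.ext
    simp
  map_mul' a b := by
    apply Subtype.ext
    simp [mul_assoc]

theorem conjCent_coe (g y : X) (c : ↥(Subgroup.centralizer ({y} : Set X))) :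
    ((conjCent g y c : ↥(Subgroup.centralizer ({g * y * g⁻¹} : Set X))) : X) = g * c * g⁻¹ := rfl

theorem conjCent_surjective (g y : X) : Function.Surjective (conjCent g y) := by
  intro d
  have hd := d.2
  refine ⟨⟨g⁻¹ * d * g, ?_⟩, ?_⟩
  · rw [Subgroup.mem_centralizer_iff] at hd ⊢
    intro x hx
    rw [Set.mem_singleton_iff] at hx
    subst hx
    have h1 := hd (g * x * g⁻¹) rfl
    calc x * (g⁻¹ * ↑d * g) = g⁻¹ * ((g * x * g⁻¹) * ↑d) * g := by group
      _ = g⁻¹ * (↑d * (g * x * g⁻¹)) * g := by rw [h1]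
      _ = g⁻¹ * ↑d * g * x := by group
  · apply Subtype.ext
    rw [conjCent_coe]
    simp [mul_assoc]

theorem conjCent_injective (g y : X) : Function.Injective (conjCent g y) := by
  intro a b hab
  have h := congrArg Subtype.val hab
  rw [conjCent_coe, conjCent_coe] at h
  apply Subtype.ext
  exact mul_left_cancel (mul_right_cancel h)

theorem th_conj_le (g y : X) :
    (th y).map (MulAut.conj g).toMonoidHom ≤ th (g * y * g⁻¹) := by
  rintro _ ⟨v, ⟨v', hv', rfl⟩, rfl⟩
  refine ⟨conjCent g y v', ?_, ?_⟩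
  · have hle : (oddCore ↥(Subgroup.centralizer ({y} : Set X))).map (conjCent g y) ≤
        oddCore ↥(Subgroup.centralizer ({g * y * g⁻¹} : Set X)) := by
      unfold oddCore pPrimeCore
      rw [Subgroup.map_le_iff_le_comap]
      apply sSup_le
      rintro N ⟨hN, hc⟩
      rw [← Subgroup.map_le_iff_le_comap]
      refine le_sSup ⟨hN.map _ (conjCent_surjective g y), ?_⟩
      rw [Subgroup.card_map_of_injective (conjCent_injective g y)]
      exact hc
    exact hle ⟨v', hv', rfl⟩
  · simp [conjCent_coe]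

theorem th_conj (g y : X) :
    (th y).map (MulAut.conj g).toMonoidHom = th (g * y * g⁻¹) := by
  apply le_antisymm (th_conj_le g y)
  have h1 := th_conj_le g⁻¹ (g * y * g⁻¹)
  have h2 : g⁻¹ * (g * y * g⁻¹) * g⁻¹⁻¹ = y := by group
  rw [h2] at h1
  intro x hx
  refine ⟨g⁻¹ * x * g, ?_, ?_⟩
  · apply h1
    exact ⟨x, hx, by simp⟩
  · simp [mul_assoc]

theorem le_th [Finite X] {y : X} {N : Subgroup X} (hN : N ≤ Subgroup.centralizer ({y} : Set X))
    (hn : Subgroup.centralizer ({y} : Set X) ≤ Subgroup.normalizer (N : Set X))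
    (hc : (Nat.card ↥N).Coprime 2) : N ≤ th y := by
  intro x hx
  have hnorm : (N.subgroupOf (Subgroup.centralizer ({y} : Set X))).Normal := by
    constructor
    intro n hn' c
    rw [Subgroup.mem_subgroupOf] at hn' ⊢
    have := (Subgroup.mem_normalizer_iff.mp (hn c.2) (n : X)).mp hn'
    simpa using this
  have hcard : (Nat.card ↥(N.subgroupOf (Subgroup.centralizer ({y} : Set X)))).Coprime 2 := by
    have : Nat.card ↥(N.subgroupOf (Subgroup.centralizer ({y} : Set X))) = Nat.card ↥N :=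
      Nat.card_congr (Subgroup.subgroupOfEquivOfLe hN).toEquiv
    rw [this]
    exact hc
  have h1 := Cfsg.Agent.Lib.Helper55.le_pPrimeCore hnorm hcard
  refine ⟨⟨x, hN hx⟩, h1 ?_, rfl⟩
  rw [Subgroup.mem_subgroupOf]
  exact hx

end Cfsg.Agent.Lib.Helper55.S2924
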