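/-
helper55: project S2924, module [COMM]: an abstract balanced family of abelian odd-order subgroups
over an elementary abelian 2-group of order at least 8 commutes pairwise.
-/
import Mathlib
import Cfsg.Prelude.Def_Transfer

set_option autoImplicit false

namespace Cfsg.Agent.Lib.Helper55.S2924

variable {X : Type*} [Group X]

/-- the part of `v ^ 2` centralized by the involution `t`. -/
def spP (t v : X) : X := v * (t * v * t⁻¹)

/-- the part of `v ^ 2` inverted by the involution `t`. -/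
def spM (t v : X) : X := v * (t * v * t⁻¹)⁻¹

theorem inv_eq_self_of_sq {t : X} (ht : t ^ 2 = 1) : t⁻¹ = t := by
  rw [pow_two] at ht
  exact inv_eq_of_mul_eq_one_right ht

theorem commute_of_sq_commute {v u : X} (hv : Odd (orderOf v)) (hu : Odd (orderOf u))
    (h : Commute (v ^ 2) (u ^ 2)) : Commute v u := by
  obtain ⟨k, hk⟩ := hv
  obtain ⟨l, hl⟩ := hu
  have h1 : (v ^ 2) ^ (k + 1) = v := by
    rw [← pow_mul]
    have : 2 * (k + 1) = orderOf v + 1 := by omega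
    rw [this, pow_succ, pow_orderOf_eq_one, one_mul]
  have h2 : (u ^ 2) ^ (l + 1) = u := by
    rw [← pow_mul]
    have : 2 * (l + 1) = orderOf u + 1 := by omega
    rw [this, pow_succ, pow_orderOf_eq_one, one_mul]
  have := (h.pow_left (k + 1)).pow_right (l + 1)
  rwa [h1, h2] at this

section Split

variable {V : Subgroup X} {t : X}

theorem spP_mem (htV : ∀ v ∈ V, t * v * t⁻¹ ∈ V) {v : X} (hv : v ∈ V) : spP t v ∈ V :=
  V.mul_mem hv (htV v hv)

theorem spM_mem (htV : ∀ v ∈ V, t * v * t⁻¹ ∈ V) {v : X} (hv : v ∈ V) : spM t v ∈ V :=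
  V.mul_mem hv (V.inv_mem (htV v hv))

theorem spP_mul_spM (hV : ∀ u ∈ V, ∀ v ∈ V, Commute u v) (htV : ∀ v ∈ V, t * v * t⁻¹ ∈ V)
    {v : X} (hv : v ∈ V) : spP t v * spM t v = v ^ 2 := by
  have hc : Commute (t * v * t⁻¹) v := hV _ (htV v hv) v hv
  unfold spP spM
  calc v * (t * v * t⁻¹) * (v * (t * v * t⁻¹)⁻¹)
      = v * ((t * v * t⁻¹) * v) * (t * v * t⁻¹)⁻¹ := by group
    _ = v * (v * (t * v * t⁻¹)) * (t * v * t⁻¹)⁻¹ := by rw [hc.eq]
    _ = v ^ 2 := by rw [pow_two]; group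

theorem conj_spP (hV : ∀ u ∈ V, ∀ v ∈ V, Commute u v) (ht : t ^ 2 = 1)
    (htV : ∀ v ∈ V, t * v * t⁻¹ ∈ V) {v : X} (hv : v ∈ V) :
    t * spP t v * t⁻¹ = spP t v := by
  have hc : Commute (t * v * t⁻¹) v := hV _ (htV v hv) v hv
  have hti := inv_eq_self_of_sq ht
  have htt : t * t = 1 := by rw [← pow_two]; exact ht
  unfold spP
  calc t * (v * (t * v * t⁻¹)) * t⁻¹
      = (t * v * t⁻¹) * ((t * t) * v * (t⁻¹ * t⁻¹)) := by group
    _ = (t * v * t⁻¹) * v := by rw [hti, htt]; group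
    _ = v * (t * v * t⁻¹) := hc.eq

theorem conj_spM (ht : t ^ 2 = 1) (v : X) :
    t * spM t v * t⁻¹ = (spM t v)⁻¹ := by
  have hti := inv_eq_self_of_sq ht
  have htt : t * t = 1 := by rw [← pow_two]; exact ht
  unfold spM
  calc t * (v * (t * v * t⁻¹)⁻¹) * t⁻¹
      = (t * v * t⁻¹) * ((t * t) * v⁻¹ * (t⁻¹ * t⁻¹)) := by group
    _ = (t * v * t⁻¹) * v⁻¹ := by rw [hti, htt]; group
    _ = (v * (t * v * t⁻¹)⁻¹)⁻¹ := by group

theorem conj_conj_of_commute {s : X} (hst : Commute s t) (v : X) :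
    s * (t * v * t⁻¹) * s⁻¹ = t * (s * v * s⁻¹) * t⁻¹ := by
  have h1 : s * t = t * s := hst.eq
  have h2 : t⁻¹ * s⁻¹ = s⁻¹ * t⁻¹ := by rw [← mul_inv_rev, ← mul_inv_rev, h1]
  calc s * (t * v * t⁻¹) * s⁻¹ = (s * t) * v * (t⁻¹ * s⁻¹) := by group
    _ = (t * s) * v * (s⁻¹ * t⁻¹) := by rw [h1, h2]
    _ = t * (s * v * s⁻¹) * t⁻¹ := by group

theorem conj_spP_of_cent {s : X} (hst : Commute s t) {v : X} (hs : s * v * s⁻¹ = v) :
    s * spP t v * s⁻¹ = spP t v := by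
  unfold spP
  calc s * (v * (t * v * t⁻¹)) * s⁻¹ = (s * v * s⁻¹) * (s * (t * v * t⁻¹) * s⁻¹) := by group
    _ = v * (t * v * t⁻¹) := by rw [conj_conj_of_commute hst, hs]

theorem conj_spM_of_cent {s : X} (hst : Commute s t) {v : X} (hs : s * v * s⁻¹ = v) :
    s * spM t v * s⁻¹ = spM t v := by
  unfold spM
  calc s * (v * (t * v * t⁻¹)⁻¹) * s⁻¹ = (s * v * s⁻¹) * (s * (t * v * t⁻¹) * s⁻¹)⁻¹ := by group
    _ = v * (t * v * t⁻¹)⁻¹ := by rw [conj_conj_of_commute hst, hs]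

theorem conj_spP_of_inv (hV : ∀ u ∈ V, ∀ v ∈ V, Commute u v) (htV : ∀ v ∈ V, t * v * t⁻¹ ∈ V)
    {s : X} (hst : Commute s t) {v : X} (hv : v ∈ V) (hs : s * v * s⁻¹ = v⁻¹) :
    s * spP t v * s⁻¹ = (spP t v)⁻¹ := by
  have hc : Commute (t * v * t⁻¹) v := hV _ (htV v hv) v hv
  unfold spP
  calc s * (v * (t * v * t⁻¹)) * s⁻¹ = (s * v * s⁻¹) * (s * (t * v * t⁻¹) * s⁻¹) := by group
    _ = v⁻¹ * (t * v⁻¹ * t⁻¹) := by rw [conj_conj_of_commute hst, hs]
    _ = ((t * v * t⁻¹) * v)⁻¹ := by group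
    _ = (v * (t * v * t⁻¹))⁻¹ := by rw [hc.eq]

theorem conj_spM_of_inv (hV : ∀ u ∈ V, ∀ v ∈ V, Commute u v) (htV : ∀ v ∈ V, t * v * t⁻¹ ∈ V)
    {s : X} (hst : Commute s t) {v : X} (hv : v ∈ V) (hs : s * v * s⁻¹ = v⁻¹) :
    s * spM t v * s⁻¹ = (spM t v)⁻¹ := by
  have hc : Commute (t * v * t⁻¹)⁻¹ v := hV _ (V.inv_mem (htV v hv)) v hv
  unfold spM
  calc s * (v * (t * v * t⁻¹)⁻¹) * s⁻¹ = (s * v * s⁻¹) * (s * (t * v * t⁻¹) * s⁻¹)⁻¹ := by group
    _ = v⁻¹ * (t * v⁻¹ * t⁻¹)⁻¹ := by rw [conj_conj_of_commute hst, hs]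
    _ = ((t * v * t⁻¹)⁻¹ * v)⁻¹ := by group
    _ = (v * (t * v * t⁻¹)⁻¹)⁻¹ := by rw [hc.eq]

end Split

theorem conj_mul_of_inv_inv {s t x : X} (hs : s * x * s⁻¹ = x⁻¹) (ht : t * x * t⁻¹ = x⁻¹) :
    (s * t) * x * (s * t)⁻¹ = x := by
  calc (s * t) * x * (s * t)⁻¹ = s * (t * x * t⁻¹) * s⁻¹ := by group
    _ = (s * x * s⁻¹)⁻¹ := by rw [ht]; group
    _ = x := by rw [hs, inv_inv]

theorem conj_mul_of_cent_cent {s t x : X} (hs : s * x * s⁻¹ = x) (ht : t * x * t⁻¹ = x) :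
    (s * t) * x * (s * t)⁻¹ = x := by
  calc (s * t) * x * (s * t)⁻¹ = s * (t * x * t⁻¹) * s⁻¹ := by group
    _ = x := by rw [ht, hs]

theorem commute_of_conj_eq {s x : X} (h : s * x * s⁻¹ = x) : Commute x s := by
  have : s * x = x * s := by
    calc s * x = (s * x * s⁻¹) * s := by group
      _ = x * s := by rw [h]
  exact this.symm

theorem conj_eq_of_commute {s x : X} (h : Commute x s) : s * x * s⁻¹ = x := by
  rw [← h.eq]; group

/-- **[COMM]** -/
theorem commute_of_balance (Y : Subgroup X) (θ : X → Subgroup X)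
    (hY : Cfsg.IsElementaryAbelian 2 Y) (h8 : 8 ≤ Nat.card ↥Y)
    (hab : ∀ y ∈ Y, y ≠ 1 → ∀ u ∈ θ y, ∀ v ∈ θ y, Commute u v)
    (hodd : ∀ y ∈ Y, y ≠ 1 → ∀ v ∈ θ y, Odd (orderOf v))
    (hcent : ∀ y ∈ Y, y ≠ 1 → ∀ v ∈ θ y, Commute v y)
    (hnorm : ∀ y ∈ Y, y ≠ 1 → ∀ t ∈ Y, ∀ v ∈ θ y, t * v * t⁻¹ ∈ θ y)
    (hbal : ∀ a ∈ Y, a ≠ 1 → ∀ b ∈ Y, b ≠ 1 → ∀ v ∈ θ a, Commute v b → v ∈ θ b) :
    ∀ a ∈ Y, a ≠ 1 → ∀ b ∈ Y, b ≠ 1 → ∀ v ∈ θ a, ∀ u ∈ θ b, Commute v u := by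
  classical
  intro a ha ha1 b hb hb1 v hv u hu
  have hcommY : ∀ s ∈ Y, ∀ t ∈ Y, Commute s t := by
    intro s hs t ht
    have hc := hY.1
    have h := hc.is_comm.comm (⟨s, hs⟩ : Y) ⟨t, ht⟩
    exact congrArg Subtype.val h
  have hsq : ∀ s ∈ Y, s ^ 2 = 1 := hY.2
  by_cases hab' : a = b
  · subst hab'
    exact hab a ha ha1 v hv u hu
  -- pick c outside {1, a, b, a * b}
  obtain ⟨c, hc, hc1, hca, hcb, hcab⟩ : ∃ c ∈ Y, c ≠ 1 ∧ c ≠ a ∧ c ≠ b ∧ c ≠ a * b := by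
    by_contra hcon
    push Not at hcon
    have hfin : Finite ↥Y := Nat.finite_of_card_ne_zero (by omega)
    have hsub : (Y : Set X) ⊆ (({1, a, b, a * b} : Finset X) : Set X) := by
      intro c hc
      by_cases h1 : c = 1
      · simp [h1]
      by_cases h2 : c = a
      · simp [h2]
      by_cases h3 : c = b
      · simp [h3]
      have := hcon c hc h1 h2 h3
      simp [this]
    have h4 : Nat.card ↥Y ≤ 4 := by
      have e1 : Nat.card ↥Y = (Y : Set X).ncard := rfl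
      rw [e1]
      have e2 := Set.ncard_le_ncard hsub (Finset.finite_toSet _)
      rw [Set.ncard_coe_finset] at e2
      exact e2.trans (Finset.card_le_four)
    omega
  -- abbreviations
  have hVa := hab a ha ha1
  have hVb := hab b hb hb1
  have hna : ∀ t ∈ Y, ∀ v ∈ θ a, t * v * t⁻¹ ∈ θ a := hnorm a ha ha1
  have hnb : ∀ t ∈ Y, ∀ v ∈ θ b, t * v * t⁻¹ ∈ θ b := hnorm b hb hb1
  -- a reduction principle
  have red : ∀ {y : X} (_ : y ∈ Y) (_ : y ≠ 1) {t : X} (_ : t ∈ Y) {x w : X} (_ : x ∈ θ y)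
      (_ : Odd (orderOf w)), Commute (spP t x) (w ^ 2) → Commute (spM t x) (w ^ 2) →
      Commute x w := by
    intro y hy hy1 t ht x w hx hw h1 h2
    apply commute_of_sq_commute (hodd y hy hy1 x hx) hw
    rw [← spP_mul_spM (hab y hy hy1) (hnorm y hy hy1 t ht) hx]
    exact h1.mul_left h2
  have red' : ∀ {y : X} (_ : y ∈ Y) (_ : y ≠ 1) {t : X} (_ : t ∈ Y) {x w : X} (_ : x ∈ θ y),
      Commute (spP t x) w → Commute (spM t x) w → Commute (x ^ 2) w := by
    intro y hy hy1 t ht x w hx h1 h2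
    rw [← spP_mul_spM (hab y hy hy1) (hnorm y hy hy1 t ht) hx]
    exact h1.mul_left h2
  -- first split: v under b, u under a
  have hvP : spP b v ∈ θ a := spP_mem (hna b hb) hv
  have hvM : spM b v ∈ θ a := spM_mem (hna b hb) hv
  have huP : spP a u ∈ θ b := spP_mem (hnb a ha) hu
  have huM : spM a u ∈ θ b := spM_mem (hnb a ha) hu
  have hvPb : spP b v ∈ θ b :=
    hbal a ha ha1 b hb hb1 _ hvP (commute_of_conj_eq (conj_spP hVa (hsq b hb) (hna b hb) hv))
  have huPa : spP a u ∈ θ a :=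
    hbal b hb hb1 a ha ha1 _ huP (commute_of_conj_eq (conj_spP hVb (hsq a ha) (hnb a ha) hu))
  -- the inverted parts
  set v' := spM b v with hv'
  set u' := spM a u with hu'
  have hv'b : b * v' * b⁻¹ = v'⁻¹ := conj_spM (hsq b hb) v
  have hu'a : a * u' * a⁻¹ = u'⁻¹ := conj_spM (hsq a ha) u
  have hv'a : a * v' * a⁻¹ = v' := conj_eq_of_commute (hcent a ha ha1 v' hvM)
  have hu'b : b * u' * b⁻¹ = u' := conj_eq_of_commute (hcent b hb hb1 u' huM)
  -- key: v' and u' commute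
  have key : Commute v' u' := by
    -- second split under c
    have hvPP : spP c v' ∈ θ a := spP_mem (hna c hc) hvM
    have hvMM : spM c v' ∈ θ a := spM_mem (hna c hc) hvM
    have huPP : spP c u' ∈ θ b := spP_mem (hnb c hc) huM
    have huMM : spM c u' ∈ θ b := spM_mem (hnb c hc) huM
    -- conjugation data
    have vPP_c : c * spP c v' * c⁻¹ = spP c v' := conj_spP hVa (hsq c hc) (hna c hc) hvM
    have vPP_a : a * spP c v' * a⁻¹ = spP c v' := conj_spP_of_cent (hcommY a ha c hc) hv'a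
    have vMM_c : c * spM c v' * c⁻¹ = (spM c v')⁻¹ := conj_spM (hsq c hc) v'
    have vMM_a : a * spM c v' * a⁻¹ = spM c v' := conj_spM_of_cent (hcommY a ha c hc) hv'a
    have vMM_b : b * spM c v' * b⁻¹ = (spM c v')⁻¹ :=
      conj_spM_of_inv hVa (hna c hc) (hcommY b hb c hc) hvM hv'b
    have uPP_c : c * spP c u' * c⁻¹ = spP c u' := conj_spP hVb (hsq c hc) (hnb c hc) huM
    have uPP_b : b * spP c u' * b⁻¹ = spP c u' := conj_spP_of_cent (hcommY b hb c hc) hu'b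
    have uMM_c : c * spM c u' * c⁻¹ = (spM c u')⁻¹ := conj_spM (hsq c hc) u'
    have uMM_b : b * spM c u' * b⁻¹ = spM c u' := conj_spM_of_cent (hcommY b hb c hc) hu'b
    have uMM_a : a * spM c u' * a⁻¹ = (spM c u')⁻¹ :=
      conj_spM_of_inv hVb (hnb c hc) (hcommY a ha c hc) huM hu'a
    -- nontriviality of c, a*c, b*c, a*b*c
    have hai := inv_eq_self_of_sq (hsq a ha)
    have hbi := inv_eq_self_of_sq (hsq b hb)
    have hac1 : a * c ≠ 1 := by
      intro h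
      apply hca
      have : c = a⁻¹ := eq_inv_of_mul_eq_one_right h
      rw [this, hai]
    have hbc1 : b * c ≠ 1 := by
      intro h
      apply hcb
      have : c = b⁻¹ := eq_inv_of_mul_eq_one_right h
      rw [this, hbi]
    have habc1 : a * (b * c) ≠ 1 := by
      intro h
      apply hcab
      have h1 : a * b * c = 1 := by rw [mul_assoc]; exact h
      have : c = (a * b)⁻¹ := eq_inv_of_mul_eq_one_right h1
      rw [this, mul_inv_rev, hai, hbi, (hcommY b hb a ha).eq]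
    have hacY : a * c ∈ Y := Y.mul_mem ha hc
    have hbcY : b * c ∈ Y := Y.mul_mem hb hc
    have habcY : a * (b * c) ∈ Y := Y.mul_mem ha hbcY
    -- the four pairs
    have p1 : Commute (spP c v') (spP c u') :=
      hab c hc hc1 _ (hbal a ha ha1 c hc hc1 _ hvPP (commute_of_conj_eq vPP_c))
        _ (hbal b hb hb1 c hc hc1 _ huPP (commute_of_conj_eq uPP_c))
    have p2 : Commute (spP c v') (spM c u') :=
      hab (a * c) hacY hac1 _
        (hbal a ha ha1 (a * c) hacY hac1 _ hvPP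
          (commute_of_conj_eq (conj_mul_of_cent_cent vPP_a vPP_c)))
        _ (hbal b hb hb1 (a * c) hacY hac1 _ huMM
          (commute_of_conj_eq (conj_mul_of_inv_inv uMM_a uMM_c)))
    have p3 : Commute (spM c v') (spP c u') :=
      hab (b * c) hbcY hbc1 _
        (hbal a ha ha1 (b * c) hbcY hbc1 _ hvMM
          (commute_of_conj_eq (conj_mul_of_inv_inv vMM_b vMM_c)))
        _ (hbal b hb hb1 (b * c) hbcY hbc1 _ huPP
          (commute_of_conj_eq (conj_mul_of_cent_cent uPP_b uPP_c)))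
    have p4 : Commute (spM c v') (spM c u') := by
      have e : a * (b * c) = b * (a * c) := by
        rw [← mul_assoc, ← mul_assoc, (hcommY a ha b hb).eq]
      refine hab (a * (b * c)) habcY habc1 _
        (hbal a ha ha1 (a * (b * c)) habcY habc1 _ hvMM
          (commute_of_conj_eq (conj_mul_of_cent_cent vMM_a (conj_mul_of_inv_inv vMM_b vMM_c))))
        _ (hbal b hb hb1 (a * (b * c)) habcY habc1 _ huMM ?_)
      rw [e]
      exact commute_of_conj_eq (conj_mul_of_cent_cent uMM_b (conj_mul_of_inv_inv uMM_a uMM_c))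
    -- assemble
    have q1 : Commute (spP c v') (u' ^ 2) := by
      rw [← spP_mul_spM hVb (hnb c hc) huM]
      exact p1.mul_right p2
    have q2 : Commute (spM c v') (u' ^ 2) := by
      rw [← spP_mul_spM hVb (hnb c hc) huM]
      exact p3.mul_right p4
    exact red ha ha1 hc hvM (hodd b hb hb1 u' huM) q1 q2
  -- assemble first split
  have r1 : Commute (spP b v) (u ^ 2) :=
    ((hVb _ hvPb u hu).pow_right 2)
  have r2 : Commute (spM b v) (u ^ 2) := by
    rw [← spP_mul_spM hVb (hnb a ha) hu]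
    exact (hVa _ hvM _ huPa).mul_right key
  exact red ha ha1 hb hv (hodd b hb hb1 u hu) r1 r2

end Cfsg.Agent.Lib.Helper55.S2924
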